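import Mathlib
import Groth.Agent.HTopVPh.Noetherian
import Groth.Agent.AICCover.Finite

/-!
Quasi-finite subtrusive morphisms have local sections over finite surjective covers.
-/

set_option autoImplicit false
set_option backward.isDefEq.respectTransparency.types false
noncomputable section

universe u

open CategoryTheory AlgebraicGeometry Limits TopologicalSpace

namespace Groth.Agent.AICCover

open Groth.Agent.SubtrLib (IsAIC)

/-- Quasi-finite subtrusive morphisms have sections over absolutely integrally closed local domains. -/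
theorem exists_section_qf {X S : Scheme.{u}} {O : Type u} [CommRing O] [IsDomain O] [IsLocalRing O]
    (hO : IsAIC O) (g : X ⟶ S) [LocallyOfFinitePresentation g] [LocallyQuasiFinite g]
    (hg : Subtr.UnivSSubtrusive g) (t : Spec (CommRingCat.of O) ⟶ S) :
    ∃ a : Spec (CommRingCat.of O) ⟶ X, a ≫ g = t := by
  let p := pullback.snd g t
  haveI : Subtr.UnivSSubtrusive.{u}.IsStableUnderBaseChange :=
    MorphismProperty.universally_isStableUnderBaseChange _
  have hp : Subtr.UnivSSubtrusive p := MorphismProperty.of_isPullback (P := Subtr.UnivSSubtrusive)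
    (IsPullback.of_hasPullback g t) hg
  let K := AlgebraicClosure (FractionRing O)
  let j : O →+* K := (algebraMap (FractionRing O) K).comp (algebraMap O (FractionRing O))
  have hj : Function.Injective j :=
    (algebraMap (FractionRing O) K).injective.comp (IsFractionRing.injective O _)
  let m1 : Ideal j.range := (IsLocalRing.maximalIdeal O).map j.rangeRestrict
  have hm1 : m1 ≠ ⊤ := by
    intro h
    have hb : Function.Bijective j.rangeRestrict :=
      ⟨fun a b e => hj (congrArg Subtype.val e), j.rangeRestrict_surjective⟩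
    have := congrArg (Ideal.comap j.rangeRestrict) h
    rw [Ideal.comap_map_of_bijective _ hb, Ideal.comap_top] at this
    exact (IsLocalRing.maximalIdeal.isMaximal O).ne_top this
  obtain ⟨W, hW, hWm⟩ := Ideal.image_subset_nonunits_valuationSubring m1 hm1
  let φ : O →+* W := j.codRestrict W.toSubring fun a => hW ⟨a, rfl⟩
  have hφ : ∀ a, IsUnit (φ a) → IsUnit a := fun a ha => by
    by_contra hn
    have h1 : (φ a : K) ∈ (W.nonunits : Set K) :=
      hWm ⟨_, Ideal.mem_map_of_mem _ ((IsLocalRing.mem_maximalIdeal a).mpr hn), rfl⟩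
    exact (ValuationSubring.coe_mem_nonunits_iff.mp h1) ha
  obtain ⟨a, ha⟩ := SubtrLib.exists_section p hp (HTopVPh.isAIC_valuationSubring W)
    (Spec.map (CommRingCat.ofHom φ))
  obtain ⟨A, hA, haA, -⟩ := exists_isAffineOpen_mem_and_subset
    (x := a (IsLocalRing.closedPoint W)) (U := (⊤ : (pullback g t).Opens)) trivial
  obtain ⟨σ, hσ⟩ := SubtrLib.exists_ringHom_of_closedPoint_mem a hA haA
  obtain ⟨α, hα⟩ := Spec.map_surjective (hA.fromSpec ≫ p)
  have hcomp : α ≫ CommRingCat.ofHom σ = CommRingCat.ofHom φ := by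
    apply Spec.map_injective
    rw [Spec.map_comp, hα, ← ha, ← Category.assoc, hσ]
  haveI : LocallyOfFiniteType (Spec.map α) := by rw [hα]; infer_instance
  haveI : LocallyQuasiFinite (Spec.map α) := by rw [hα]; infer_instance
  letI := α.hom.toAlgebra
  haveI : Algebra.FiniteType O Γ(pullback g t, A) :=
    ((HasRingHomProperty.Spec_iff (P := @LocallyOfFiniteType)).mp ‹_› :)
  haveI : Algebra.QuasiFinite O Γ(pullback g t, A) :=
    ((HasRingHomProperty.Spec_iff (P := @LocallyQuasiFinite)).mp ‹_› :)
  let q : Ideal Γ(pullback g t, A) := (IsLocalRing.maximalIdeal W).comap σ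
  obtain ⟨r, hrq, hrint, hr⟩ :=
    Algebra.zariskisMainProperty_iff.mp (Algebra.ZariskisMainProperty.of_finiteType (R := O) q)
  have hinO : ∀ x, IsIntegral O x → ∃ o, φ o = σ x := fun x hx => by
    letI : Algebra O K := j.toAlgebra
    let σK : Γ(pullback g t, A) →ₐ[O] K :=
      { W.subtype.comp σ with
        commutes' := fun o => congrArg Subtype.val
          (RingHom.congr_fun (congrArg CommRingCat.Hom.hom hcomp) o) }
    obtain ⟨o, ho⟩ := SubtrLib.IsAIC.mem_range_of_isIntegral hO (hx.map σK)
    exact ⟨o, Subtype.ext ho⟩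
  obtain ⟨ρ, hρ⟩ := hinO r hrint
  have hρu : IsUnit ρ := hφ ρ (hρ ▸ by_contra fun hn => hrq hn)
  have hall : ∀ x, σ x ∈ φ.range := fun x => by
    obtain ⟨m, hm⟩ := hr x
    obtain ⟨o, ho⟩ := hinO _ hm
    rw [map_mul, map_pow, ← hρ] at ho
    obtain ⟨v, hv⟩ := hρu.pow m
    refine ⟨(v⁻¹ : Oˣ) * o, ?_⟩
    rw [map_mul, ho, ← mul_assoc, ← map_pow, ← hv, ← map_mul]
    simp
  have hφi : Function.Injective φ := fun x y e => hj (congrArg Subtype.val e)
  let e := RingEquiv.ofBijective φ.rangeRestrict
    ⟨fun x y h => hφi (congrArg Subtype.val h), φ.rangeRestrict_surjective⟩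
  let χ : Γ(pullback g t, A) →+* O := e.symm.toRingHom.comp (σ.codRestrict _ hall)
  have hχ : α ≫ CommRingCat.ofHom χ = 𝟙 _ := by
    refine CommRingCat.hom_ext (RingHom.ext fun o => hφi ?_)
    refine Eq.trans ?_ (RingHom.congr_fun (congrArg CommRingCat.Hom.hom hcomp) o)
    exact congrArg Subtype.val (e.apply_symm_apply _)
  refine ⟨Spec.map (CommRingCat.ofHom χ) ≫ hA.fromSpec ≫ pullback.fst g t, ?_⟩
  rw [Category.assoc, Category.assoc, pullback.condition, ← Category.assoc hA.fromSpec, ← hα,
    ← Category.assoc, ← Spec.map_comp, hχ, Spec.map_id, Category.id_comp]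

/-- The cover has Zariski local sections of every locally quasi-finite subtrusive morphism. -/
theorem exists_local_section_qf {X S : Scheme.{u}} (g : X ⟶ S) [LocallyOfFinitePresentation g]
    [LocallyQuasiFinite g] (hg : Subtr.UnivSSubtrusive g) (z : space S) :
    ∃ (V : (space S).Opens) (r : (V : Scheme.{u}) ⟶ X), z ∈ V ∧ r ≫ g = V.ι ≫ proj S := by
  obtain ⟨U, hU, hzU, -⟩ := exists_isAffineOpen_mem_and_subset (x := proj S z) (U := (⊤ : S.Opens)) trivial
  let U' : S.AffineZariskiSite := ⟨U, hU⟩
  let m : Spec (CommRingCat.of (ring S U)) ⟶ space S := (chart S).f U'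
  haveI : IsOpenImmersion m := (chart S).map_prop U'
  have hm : m ≫ proj S = Spec.map (CommRingCat.ofHom (toRing S U)) ≫ hU.fromSpec := chart_proj S U'
  obtain ⟨q, hq⟩ : z ∈ Set.range m := by
    have : z ∈ proj S ⁻¹ᵁ U'.1 := hzU
    rw [proj_preimage] at this
    exact this
  haveI : q.asIdeal.IsPrime := q.2
  haveI := isDomain_localization q.asIdeal (idemSplit_ring S U)
  obtain ⟨a, ha⟩ := exists_section_qf (isAIC_localization q.asIdeal (isAIC_ring S U)) g hg
    (Spec.map (CommRingCat.ofHom (algebraMap (ring S U) (Localization.AtPrime q.asIdeal))) ≫ m ≫ proj S)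
  obtain ⟨c, hc, b, hb⟩ := exists_spread_scheme g (m ≫ proj S) q.asIdeal a ha U hU (by
    rintro - ⟨p, rfl⟩
    rw [hm, Scheme.Hom.comp_apply, ← hU.range_fromSpec]
    exact ⟨_, rfl⟩)
  let i : Spec (CommRingCat.of (Localization.Away c)) ⟶ space S :=
    Spec.map (CommRingCat.ofHom (algebraMap (ring S U) (Localization.Away c))) ≫ m
  haveI : IsOpenImmersion (Spec.map (CommRingCat.ofHom (algebraMap (ring S U) (Localization.Away c)))) :=
    IsOpenImmersion.of_isLocalization c
  haveI : IsOpenImmersion i := inferInstanceAs (IsOpenImmersion (_ ≫ m))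
  refine ⟨i.opensRange, i.isoOpensRange.inv ≫ b, ?_, ?_⟩
  · obtain ⟨q', hq'⟩ : q ∈ Set.range (PrimeSpectrum.comap (algebraMap (ring S U) (Localization.Away c))) := by
      rw [PrimeSpectrum.localization_away_comap_range _ c]; exact hc
    exact ⟨q', (congrArg m hq').trans hq⟩
  · rw [Category.assoc, hb, ← Category.assoc (Spec.map _) m, show Spec.map _ ≫ m = i from rfl,
      ← Category.assoc, Scheme.Hom.isoOpensRange_inv_comp]

/-- A morphism with local sections on the absolutely integrally closed cover has them on a finite cover. -/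
theorem exists_finite_cover_of_local_section {X S : Scheme.{u}} [CompactSpace S] [QuasiSeparatedSpace S]
    (g : X ⟶ S) [LocallyOfFinitePresentation g]
    (hT : ∀ z : space S, ∃ (V : (space S).Opens) (r : (V : Scheme.{u}) ⟶ X), z ∈ V ∧ r ≫ g = V.ι ≫ proj S) :
    ∃ (Z : Scheme.{u}) (π : Z ⟶ S), Surjective π ∧ IsFinite π ∧ LocallyOfFinitePresentation π ∧
      ∀ z : Z, ∃ (V : Z.Opens) (r : (V : Scheme.{u}) ⟶ X), z ∈ V ∧ r ≫ g = V.ι ≫ π := by
  classical
  have key : ∀ t : Finset S.affineOpens, ∃ (Z : Scheme.{u}) (π : Z ⟶ S), Surjective π ∧ IsFinite π ∧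
      LocallyOfFinitePresentation π ∧ ∀ U ∈ t, HasLocalSections g π U.1 := by
    intro t
    induction t using Finset.induction_on with
    | empty => exact ⟨S, 𝟙 S, inferInstance, inferInstance, inferInstance, by simp⟩
    | insert U t _ ih =>
      obtain ⟨Z, π, hs, hf, hp, hsec⟩ := ih
      obtain ⟨B, y, hys, hyf, hyp, hysec⟩ := exists_cover_affine g (proj S) hT U
      haveI := hys
      haveI := hyf
      obtain ⟨Z', π', i, hi, hs', hf', hp'⟩ := exists_extend U.1 U.2.isCompact y
      haveI := hs; haveI := hf; haveI := hp; haveI := hs'; haveI := hf'; haveI := hp' hyp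
      have hU : HasLocalSections g π' U.1 := by
        haveI : IsOpenImmersion i := MorphismProperty.of_isPullback (P := @IsOpenImmersion) hi.flip inferInstance
        intro z hz
        obtain ⟨w, hw, -⟩ := Scheme.Pullback.exists_preimage_pullback (f := π') (g := U.1.ι) z ⟨π' z, hz⟩ rfl
        obtain ⟨x, hx⟩ : ∃ x, i x = z := ⟨hi.isoPullback.inv w, by
          rw [← Scheme.Hom.comp_apply, hi.isoPullback_inv_fst]; exact hw⟩
        obtain ⟨V, r, hxV, hr⟩ := hysec x (y x).2
        refine ⟨i ''ᵁ V, (i.isoImage V).inv ≫ r, ⟨x, hxV, hx⟩, ?_⟩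
        rw [Category.assoc, hr, ← hi.w, ← Scheme.Hom.isoImage_inv_ι_assoc]
      refine ⟨pullback π π', pullback.snd π π' ≫ π', inferInstance, inferInstance, inferInstance, fun U' hU' => ?_⟩
      rcases Finset.mem_insert.1 hU' with rfl | hU'
      · exact hU.comp _
      · rw [← pullback.condition]
        exact (hsec U' hU').comp _
  obtain ⟨t, ht⟩ := (isCompact_univ (X := S)).elim_finite_subcover (fun U : S.affineOpens => (U.1 : Set S))
    (fun U => U.1.2) fun s _ => by
      obtain ⟨U, hU, hsU, -⟩ := exists_isAffineOpen_mem_and_subset (x := s) (U := (⊤ : S.Opens)) trivial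
      exact Set.mem_iUnion.2 ⟨⟨U, hU⟩, hsU⟩
  obtain ⟨Z, π, hs, hf, hp, hsec⟩ := key t
  refine ⟨Z, π, hs, hf, hp, fun z => ?_⟩
  obtain ⟨U, hU, hzU⟩ := Set.mem_iUnion₂.1 (ht (Set.mem_univ (π z)))
  exact hsec U hU z hzU

end Groth.Agent.AICCover
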